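import Groth.Agent.LocCohLC.QCoh

/-!
# Abelian and module local cohomology sheaves with locally closed supports agree
-/

set_option autoImplicit false
set_option backward.isDefEq.respectTransparency false

universe u

open CategoryTheory CategoryTheory.Limits Opposite TopologicalSpace AlgebraicGeometry

namespace Groth.Agent.LocCohLC

set_option synthInstance.maxHeartbeats 200000

section Top

variable {X : TopCat.{u}}

theorem isFlasque_restr (U : Opens X) (F : CohTop.Ab X) [TopCat.Sheaf.IsFlasque (X := X) F] :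
    TopCat.Sheaf.IsFlasque ((CohTop.restrFunctor U).obj F) :=
  ⟨fun i => TopCat.Presheaf.IsFlasque.epi (F := F.obj) ((CohTop.Restrict.img U).map i.unop).op⟩

/-- Flasque sheaves are a good class for sections with locally closed supports. -/
theorem goodClass_sectSuppLC {W V : Opens X} (h : W ≤ V) :
    ModShf.AcyclicRes.GoodClass (SuppFam.sectSuppLC h) (fun F => TopCat.Sheaf.IsFlasque (X := X) F) where
  of_injective F _ := CohTop.Flasque.isFlasque_of_injective F
  coker S hS h₁ h₂ := @TopCat.Sheaf.IsFlasque.of_shortExact_of_isFlasque₁₂ X S hS h₁ h₂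
  epi S hS h₁ := by
    haveI := h₁
    haveI := isFlasque_restr V S.X₁
    haveI := LocCohZW.sectSuppF_preservesFiniteLimits (X := TopCat.of V) (SuppFam.inOpen V W)
    have hS' : (S.map (CohTop.restrFunctor V)).ShortExact := hS.map_of_exact _
    have hS'' := ModShf.AcyclicRes.map_shortExact (LocCohZW.goodClass_sectSupp (SuppFam.inOpen V W))
      (S.map (CohTop.restrFunctor V)) hS' (isFlasque_restr V S.X₁)
    haveI hfl : TopCat.Sheaf.IsFlasque ((LocCohZ.sectSuppF (SuppFam.inOpen V W)).obj ((CohTop.restrFunctor V).obj S.X₁)) :=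
      LocCohZW.isFlasque_sectSupp _ _
    exact (ModShf.flasque_goodClass (CohCx.incl V)).epi _ hS'' hfl

instance sectSuppLC_preservesFiniteLimits {W V : Opens X} (h : W ≤ V) :
    PreservesFiniteLimits (SuppFam.sectSuppLC h) := by
  unfold SuppFam.sectSuppLC
  haveI := LocCohZW.sectSuppF_preservesFiniteLimits (X := TopCat.of V) (SuppFam.inOpen V W)
  haveI : PreservesFiniteLimits (LocCohZ.sectSuppF (SuppFam.inOpen V W) ⋙ CohTop.push (CohCx.incl V)) :=
    comp_preservesFiniteLimits _ _
  exact comp_preservesFiniteLimits _ _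

end Top

variable {Y : Scheme.{u}} (V₂ V₁ : Y.Opens) (h : V₂ ≤ V₁)

/-- Restriction of the underlying abelian sheaf. -/
noncomputable def restrAbIso : Scheme.Modules.restrictFunctor V₁.ι ⋙ ModShf.toAbFunctor (↑V₁ : Scheme.{u}) ≅
    ModShf.toAbFunctor Y ⋙ CohTop.restrFunctor (X := Y.carrier) V₁ :=
  Iso.refl _

/-- Direct image of the underlying abelian sheaf. -/
noncomputable def pushAbIso : Scheme.Modules.pushforward V₁.ι ⋙ ModShf.toAbFunctor Y ≅
    ModShf.toAbFunctor (↑V₁ : Scheme.{u}) ⋙ CohTop.push (X := TopCat.of V₁) (Y := Y.carrier) (CohCx.incl V₁) :=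
  Iso.refl _

/-- The underlying abelian sheaves of sections with locally closed supports. -/
noncomputable def Φ₁AbIso : Φ₁ V₂ V₁ ⋙ ModShf.toAbFunctor Y ≅
    ModShf.toAbFunctor Y ⋙ SuppFam.sectSuppLC (X := Y.carrier) h :=
  Functor.associator _ _ _ ≪≫
  Functor.isoWhiskerLeft (Scheme.Modules.restrictFunctor V₁.ι)
    (Functor.associator _ _ _ ≪≫
      Functor.isoWhiskerLeft (DCoh.gammaZ (inner V₂ V₁)) (pushAbIso V₁) ≪≫
      (Functor.associator _ _ _).symm ≪≫
      Functor.isoWhiskerRight (asIso (gammaCmp (Y := (↑V₁ : Scheme.{u})) (V₁.ι ⁻¹ᵁ V₂))) _ ≪≫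
      Functor.associator _ _ _) ≪≫
  (Functor.associator _ _ _).symm ≪≫
  Functor.isoWhiskerRight (restrAbIso V₁) _ ≪≫
  Functor.associator _ _ _

theorem nonempty_iso_HZshLC [HasInjectiveResolutions Y.Modules] (F : Y.Modules) (q : ℕ) :
    Nonempty (Coh.toAb (((Φ₁ V₂ V₁).rightDerived q).obj F) ≅
      (SuppFam.HZshLC (X := Y.carrier) h q).obj (Coh.toAb F)) :=
  ⟨((ModShf.rightDerivedCompIso (Φ₁ V₂ V₁) (ModShf.toAbFunctor Y) q).symm ≪≫
      RDer.rightDerivedIso (Φ₁AbIso V₂ V₁ h) q ≪≫
      ModShf.AcyclicRes.compareIso (ModShf.toAbFunctor Y) (SuppFam.sectSuppLC (X := Y.carrier) h)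
        (goodClass_sectSuppLC (X := Y.carrier) h) (fun M hM => ModShf.isFlasque_toAb_of_injective M hM) q).app F⟩

end Groth.Agent.LocCohLC
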