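import Groth.Agent.HyperLib.DerivedHom

/-!
# Diagrams of Ext groups as delta functors
-/

set_option autoImplicit false
set_option backward.isDefEq.respectTransparency false

universe w v v' u u' v'' u''

open CategoryTheory CategoryTheory.Limits Opposite

namespace Groth.Agent.LocCohLC

/-- Exactness in a functor category is pointwise. -/
theorem exact_of_eval {C D : Type*} [Category C] [Category D] [Abelian D] (S : ShortComplex (C ⥤ D))
    (h : ∀ c, (S.map ((evaluation C D).obj c)).Exact) : S.Exact := by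
  rw [ShortComplex.exact_iff_isZero_homology]
  refine Functor.isZero _ fun c => ?_
  exact ((ShortComplex.exact_iff_isZero_homology _).1 (h c)).of_iso (S.mapHomologyIso ((evaluation C D).obj c)).symm

variable {A : Type u} [Category.{v} A] [Abelian A] [HasExt.{v} A] {C : Type u'} [Category.{v'} C] (P : C ⥤ Aᵒᵖ)

open Abelian

/-- The diagram `c ↦ Ext^n (P c, -)`. -/
noncomputable abbrev extPre (n : ℕ) : A ⥤ (C ⥤ AddCommGrpCat.{v}) := (P ⋙ extFunctor n).flip

instance extPre_additive (n : ℕ) : (extPre P n).Additive where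
  map_add {F G φ ψ} := NatTrans.ext (funext fun c => Functor.map_add (extFunctorObj (P.obj c).unop n))

/-- The transition maps are precomposition. -/
theorem extPre_map (n : ℕ) (F : A) {a b : C} (g : a ⟶ b) :
    ((extPre P n).obj F).map g = AddCommGrpCat.ofHom ((Ext.mk₀ (P.map g).unop).precomp F (zero_add n)) := by
  ext x
  rfl

/-- The connecting maps of diagrams of Ext groups. -/
noncomputable def extPreδ {S : ShortComplex A} (hS : S.ShortExact) (n₀ n₁ : ℕ) (hn : n₀ + 1 = n₁) :
    (extPre P n₀).obj S.X₃ ⟶ (extPre P n₁).obj S.X₁ where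
  app c := AddCommGrpCat.ofHom (hS.extClass.postcomp (P.obj c).unop hn)
  naturality {a b} g := by
    ext x
    change ((Ext.mk₀ (P.map g).unop).comp x (zero_add n₀)).comp hS.extClass hn =
      (Ext.mk₀ (P.map g).unop).comp (Ext.comp x hS.extClass hn) (zero_add n₁)
    rw [Ext.comp_assoc _ _ _ (zero_add n₀) hn (by omega)]

variable {B : Type u''} [Category.{v''} B] [Abelian B] (L : (C ⥤ AddCommGrpCat.{v}) ⥤ B) [L.Additive]
  [PreservesFiniteLimits L] [PreservesFiniteColimits L]

/-- An exact functor applied to diagrams of Ext groups gives a delta functor. -/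
noncomputable def extPreDelta : DeltaF.CohDeltaFunctor A B ℕ where
  F n := extPre P n ⋙ L
  additive n := inferInstance
  δ S hS n₀ n₁ hn := L.map (extPreδ P hS n₀ n₁ hn)
  δ_natural {S S'} hS hS' φ n₀ n₁ hn := by
    change L.map _ ≫ _ = _ ≫ L.map _
    rw [← Functor.map_comp, ← Functor.map_comp]
    congr 1
    exact NatTrans.ext (funext fun c =>
      (HyperLib.DerivedHom.extDelta (P.obj c).unop).δ_natural hS hS' φ n₀ n₁ hn)
  exact₂ S hS n := by
    have hp : (S.map (extPre P n)).Exact := exact_of_eval _ fun c =>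
      (HyperLib.DerivedHom.extDelta (P.obj c).unop).exact₂ S hS n
    exact hp.map L
  comp_δ S hS n₀ n₁ hn := by
    change L.map _ ≫ _ = 0
    rw [← Functor.map_comp, show (extPre P n₀).map S.g ≫ extPreδ P hS n₀ n₁ hn = 0 from NatTrans.ext (funext fun c =>
      (HyperLib.DerivedHom.extDelta (P.obj c).unop).comp_δ S hS n₀ n₁ hn), Functor.map_zero]
  exact₃ S hS n₀ n₁ hn := by
    have w : (extPre P n₀).map S.g ≫ extPreδ P hS n₀ n₁ hn = 0 := NatTrans.ext (funext fun c =>
      (HyperLib.DerivedHom.extDelta (P.obj c).unop).comp_δ S hS n₀ n₁ hn)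
    have hp : (ShortComplex.mk _ _ w).Exact := exact_of_eval _ fun c =>
      (HyperLib.DerivedHom.extDelta (P.obj c).unop).exact₃ S hS n₀ n₁ hn
    exact hp.map L
  δ_comp S hS n₀ n₁ hn := by
    change _ ≫ L.map _ = 0
    rw [← Functor.map_comp, show extPreδ P hS n₀ n₁ hn ≫ (extPre P n₁).map S.f = 0 from NatTrans.ext (funext fun c =>
      (HyperLib.DerivedHom.extDelta (P.obj c).unop).δ_comp S hS n₀ n₁ hn), Functor.map_zero]
  exact₁ S hS n₀ n₁ hn := by
    have w : extPreδ P hS n₀ n₁ hn ≫ (extPre P n₁).map S.f = 0 := NatTrans.ext (funext fun c =>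
      (HyperLib.DerivedHom.extDelta (P.obj c).unop).δ_comp S hS n₀ n₁ hn)
    have hp : (ShortComplex.mk _ _ w).Exact := exact_of_eval _ fun c =>
      (HyperLib.DerivedHom.extDelta (P.obj c).unop).exact₁ S hS n₀ n₁ hn
    exact hp.map L

theorem extPreDelta_isEffaceable [EnoughInjectives A] : (extPreDelta P L).IsEffaceable := fun n F => by
  refine ⟨Injective.under F, Injective.ι F, inferInstance, ?_⟩
  change L.map _ = 0
  rw [show (extPre P (n + 1)).map (Injective.ι F) = 0 from NatTrans.ext (funext fun c => by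
    ext x
    exact Ext.eq_zero_of_injective _), Functor.map_zero]

/-- In degree zero the diagrams of Ext groups are diagrams of groups of maps. -/
noncomputable def extPreZero : (P ⋙ preadditiveCoyoneda).flip ≅ extPre P 0 :=
  NatIso.ofComponents
    (fun F => NatIso.ofComponents (fun c => (Ext.addEquiv₀ (X := (P.obj c).unop) (Y := F)).symm.toAddCommGrpIso)
      (fun {a b} g => by
        rw [extPre_map]
        ext (x : (P.obj a).unop ⟶ F)
        change Ext.mk₀ ((P.map g).unop ≫ x) = (Ext.mk₀ (P.map g).unop).comp (Ext.mk₀ x) (zero_add 0)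
        rw [Ext.mk₀_comp_mk₀]))
    (fun {F G} φ => by
      refine NatTrans.ext (funext fun c => ?_)
      ext (x : (P.obj c).unop ⟶ F)
      change Ext.mk₀ (x ≫ φ) = (Ext.mk₀ x).comp (Ext.mk₀ φ) (add_zero 0)
      rw [Ext.mk₀_comp_mk₀])

end Groth.Agent.LocCohLC
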