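import Groth.Agent.LocCohLC.Compare
import Groth.Agent.LocCohLC.ExtPresheaf

/-!
# The presheaf of cohomology with supports as a diagram of Ext groups
-/

set_option autoImplicit false
set_option backward.isDefEq.respectTransparency false

universe u

open CategoryTheory CategoryTheory.Limits Opposite TopologicalSpace

namespace Groth.Agent.LocCohLC

set_option synthInstance.maxHeartbeats 200000

variable {X : TopCat.{u}} {W V : Opens X} (h : W ≤ V)

local notation "T" => Opens.grothendieckTopology X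

/-- The system of sheaves `ℤ_{V ⊓ V'}/ℤ_{W ⊓ V'}`. -/
noncomputable def zqFun : (Opens X)ᵒᵖ ⥤ (CohTop.Ab X)ᵒᵖ where
  obj V' := op (LocCohZ.zq (inf_le_inf_right (unop V') h : W ⊓ unop V' ≤ V ⊓ unop V'))
  map {A B} g := (LocCohZ.zqMap (inf_le_inf_right (unop A) h) (inf_le_inf_right (unop B) h)
    (inf_le_inf_left W (leOfHom g.unop)) (inf_le_inf_left V (leOfHom g.unop))).op
  map_id A := Quiver.Hom.unop_inj (SuppFam.zqMap_id _)
  map_comp g g' := Quiver.Hom.unop_inj (SuppFam.zqMap_comp _ _ _ (inf_le_inf_left W (leOfHom g.unop)) _ (inf_le_inf_left W (leOfHom g'.unop)) _).symm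

theorem zqFun_map {A B : (Opens X)ᵒᵖ} (g : A ⟶ B) :
    ((zqFun h).map g).unop = LocCohZ.zqMap (inf_le_inf_right (unop A) h) (inf_le_inf_right (unop B) h)
      (inf_le_inf_left W (leOfHom g.unop)) (inf_le_inf_left V (leOfHom g.unop)) :=
  rfl

theorem naturality_of_heq {D : Type*} [Category D] {a b a' b' : D} (ha : a = a') (hb : b = b') (f : a ⟶ b)
    (g : a' ⟶ b') (hfg : HEq f g) : f ≫ (eqToIso hb).hom = (eqToIso ha).hom ≫ g := by
  subst ha hb
  cases hfg
  simp

theorem preObjEq (F : CohTop.Ab X) (n : ℕ) (V' : (Opens X)ᵒᵖ) :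
    ((extPre (zqFun h) n).obj F).obj V' = (SuppFam.HZpre F n h).obj V' := rfl

theorem preMapEq (F : CohTop.Ab X) (n : ℕ) {A B : (Opens X)ᵒᵖ} (g : A ⟶ B) :
    HEq (((extPre (zqFun h) n).obj F).map g) ((SuppFam.HZpre F n h).map g) := by
  rw [extPre_map, zqFun_map]
  exact HEq.rfl

/-- The presheaf of cohomology with supports as a diagram of Ext groups. -/
noncomputable def preIso (F : CohTop.Ab X) (n : ℕ) : (extPre (zqFun h) n).obj F ≅ SuppFam.HZpre F n h :=
  NatIso.ofComponents (fun V' => eqToIso (preObjEq h F n V'))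
    (fun {A B} g => naturality_of_heq (preObjEq h F n A) (preObjEq h F n B) _ _ (preMapEq h F n g))

end Groth.Agent.LocCohLC
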