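import Groth.Agent.LocCohLC.Compare
import Groth.Agent.LocCohLC.ZqFun

/-!
# Local cohomology sheaves as sheafified presheaves of cohomology with supports
-/

set_option autoImplicit false
set_option backward.isDefEq.respectTransparency false

universe u

open CategoryTheory CategoryTheory.Limits Opposite TopologicalSpace

namespace Groth.Agent.LocCohLC

set_option synthInstance.maxHeartbeats 200000

variable {X : TopCat.{u}} {W V : Opens X} (h : W ≤ V)

local notation "T" => Opens.grothendieckTopology X

lemma img_preimage (V' : Opens X) :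
    (CohTop.Restrict.img V).obj ((Opens.map (CohCx.incl V)).obj V') = V ⊓ V' := by
  ext x
  exact ⟨fun ⟨y, hy, e⟩ => e ▸ ⟨y.2, hy⟩, fun hx => ⟨⟨x, hx.1⟩, hx.2, rfl⟩⟩

lemma img_inner (V' : Opens X) (h : W ≤ V) :
    (CohTop.Restrict.img V).obj ((Opens.map (CohCx.incl V)).obj V' ⊓ SuppFam.inOpen V W) = W ⊓ V' := by
  ext x
  exact ⟨fun ⟨y, hy, e⟩ => e ▸ ⟨hy.2, hy.1⟩, fun hx => ⟨⟨x, h hx.1⟩, ⟨hx.2, hx.1⟩, rfl⟩⟩

/-- Sections with supports over `V'` of a restriction. -/
noncomputable def sectEquiv (F : CohTop.Ab X) (V' : Opens X) :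
    LocCohZ.sectZ ((CohTop.restrFunctor V).obj F)
        (inf_le_left : (Opens.map (CohCx.incl V)).obj V' ⊓ SuppFam.inOpen V W ≤ (Opens.map (CohCx.incl V)).obj V') ≃+
      LocCohZ.sectZ F (inf_le_inf_right V' h : W ⊓ V' ≤ V ⊓ V') where
  toFun s := ⟨(F.obj.map (homOfLE (img_preimage V').ge).op).hom s.1, by
    rw [AddMonoidHom.mem_ker]
    have e := s.2
    change _ = 0 at e
    change (F.obj.map (homOfLE _).op).hom ((F.obj.map _).hom s.1) = 0
    rw [← AddMonoidHom.comp_apply, ← AddCommGrpCat.hom_comp, ← F.obj.map_comp, ← op_comp, homOfLE_comp]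
    exact (LocCohZW.res_eq_zero_iff_of_le (F := F) _ _ (img_inner V' h).symm _).2 e⟩
  invFun s := ⟨(F.obj.map (homOfLE (img_preimage V').le).op).hom s.1, by
    rw [AddMonoidHom.mem_ker]
    have e := s.2
    change _ = 0 at e
    change (F.obj.map _).hom ((F.obj.map _).hom s.1) = 0
    rw [← AddMonoidHom.comp_apply, ← AddCommGrpCat.hom_comp, ← F.obj.map_comp]
    exact (LocCohZW.res_eq_zero_iff_of_le (F := F) _ _ (img_inner V' h) _).2 e⟩
  left_inv s := Subtype.ext (by
    change (F.obj.map _).hom ((F.obj.map _).hom s.1) = _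
    rw [← AddMonoidHom.comp_apply, ← AddCommGrpCat.hom_comp, ← F.obj.map_comp,
      show (homOfLE (img_preimage V').ge).op ≫ (homOfLE (img_preimage V').le).op = 𝟙 _ from Subsingleton.elim _ _]
    exact ConcreteCategory.congr_hom (F.obj.map_id _) s.1)
  right_inv s := Subtype.ext (by
    change (F.obj.map _).hom ((F.obj.map _).hom s.1) = _
    rw [← AddMonoidHom.comp_apply, ← AddCommGrpCat.hom_comp, ← F.obj.map_comp,
      show (homOfLE (img_preimage V').le).op ≫ (homOfLE (img_preimage V').ge).op = 𝟙 _ from Subsingleton.elim _ _]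
    exact ConcreteCategory.congr_hom (F.obj.map_id _) s.1)
  map_add' s t := Subtype.ext (map_add _ _ _)

/-- In degree zero the presheaf is the sheaf of sections with supports. -/
noncomputable def preZeroIso :
    SuppFam.sectSuppLC h ⋙ sheafToPresheaf T AddCommGrpCat.{u} ≅ (zqFun h ⋙ preadditiveCoyoneda).flip :=
  NatIso.ofComponents
    (fun F => NatIso.ofComponents
      (fun V' => (((LocCohZW.secEquiv (SuppFam.inOpen V W) ((CohTop.restrFunctor V).obj F)
          ((Opens.map (CohCx.incl V)).obj V'.unop)).trans (sectEquiv h F V'.unop)).trans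
            (LocCohZW.homZq F (inf_le_inf_right V'.unop h)).symm).toAddCommGrpIso)
      (fun {A B} g => by
        ext t
        change (LocCohZW.homZq F (inf_le_inf_right B.unop h)).symm _ =
          LocCohZ.zqMap (inf_le_inf_right A.unop h) (inf_le_inf_right B.unop h)
            (inf_le_inf_left W (leOfHom g.unop)) (inf_le_inf_left V (leOfHom g.unop)) ≫
            (LocCohZW.homZq F (inf_le_inf_right A.unop h)).symm _
        refine (LocCohZW.homZq F (inf_le_inf_right B.unop h)).injective ?_
        rw [AddEquiv.apply_symm_apply]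
        apply Subtype.ext
        refine Eq.trans ?_ (LocCohZW.homZq_zqMap F _ _ _ _ _).symm
        rw [AddEquiv.apply_symm_apply]
        change (F.obj.map _).hom _ = (F.obj.map _).hom ((F.obj.map _).hom _)
        erw [LocCohZW.secEquiv_res (SuppFam.inOpen V W) ((CohTop.restrFunctor V).obj F) (leOfHom ((Opens.map (CohCx.incl V)).map g.unop)) t]
        change (F.obj.map _).hom ((F.obj.map _).hom _) = _
        rw [← AddMonoidHom.comp_apply, ← AddCommGrpCat.hom_comp, ← F.obj.map_comp,
          ← AddMonoidHom.comp_apply, ← AddCommGrpCat.hom_comp, ← F.obj.map_comp]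
        rfl))
    (fun {F G} φ => by
      refine NatTrans.ext (funext fun V' => ?_)
      ext t
      change (LocCohZW.homZq G (inf_le_inf_right V'.unop h)).symm _ =
        (LocCohZW.homZq F (inf_le_inf_right V'.unop h)).symm _ ≫ φ
      refine (LocCohZW.homZq G (inf_le_inf_right V'.unop h)).injective ?_
      rw [AddEquiv.apply_symm_apply]
      apply Subtype.ext
      refine Eq.trans ?_ (LocCohZW.homZq_comp φ _ _).symm
      rw [AddEquiv.apply_symm_apply]
      change (G.obj.map _).hom _ = (φ.hom.app _).hom ((F.obj.map _).hom _)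
      erw [LocCohZW.secEquiv_natural (SuppFam.inOpen V W) ((CohTop.restrFunctor V).map φ)]
      exact (ConcreteCategory.congr_hom (φ.hom.naturality _) _).symm)

/-- `ℋ^q_Z` is the sheafification of the presheaf of `H^q_Z`. -/
theorem nonempty_HZshLC_iso (F : CohTop.Ab X) (q : ℕ) :
    Nonempty ((SuppFam.HZshLC h q).obj F ≅ (presheafToSheaf T AddCommGrpCat.{u}).obj (SuppFam.HZpre F q h)) := by
  obtain ⟨e⟩ := HyperLib.DerivedHom.nonempty_rightDerived_iso (SuppFam.sectSuppLC h) (extPreDelta (zqFun h) (presheafToSheaf T AddCommGrpCat.{u}))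
    (extPreDelta_isEffaceable _ _)
    ((Functor.rightUnitor _).symm ≪≫
      Functor.isoWhiskerLeft _ (asIso (sheafificationAdjunction T AddCommGrpCat.{u}).counit).symm ≪≫
      (Functor.associator _ _ _).symm ≪≫ Functor.isoWhiskerRight (preZeroIso h ≪≫ extPreZero (zqFun h)) _) q
  exact ⟨e.app F ≪≫ (presheafToSheaf T AddCommGrpCat.{u}).mapIso (preIso h F q)⟩

end Groth.Agent.LocCohLC
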