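import Groth.Agent.LocCohZW.SheafM
import Groth.Agent.LocCohZW.Sheaf
import Groth.Prelude.Def_SuppFam

/-!
# Local cohomology sheaves of modules with supports in a locally closed subset

For opens `V₂ ≤ V₁` with quasi-compact inclusions, the sheaves `ℋ^q_{V₁ \ V₂}` of a quasi-coherent module are
quasi-coherent: the long exact sequence of `0 → Γ_Z → j_{1*} j_1^* → j_{2*} j_2^* → 0`.
-/

set_option autoImplicit false
set_option backward.isDefEq.respectTransparency false

universe u

open CategoryTheory CategoryTheory.Limits Opposite TopologicalSpace AlgebraicGeometry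

namespace Groth.Agent.LocCohLC

set_option synthInstance.maxHeartbeats 200000

/-! ### The five lemma for quasi-coherence -/

theorem isQuasicoherent_of_exact₅ {X : Scheme.{u}} {A B C D E : X.Modules} (f : A ⟶ B) (g : B ⟶ C) (k : C ⟶ D)
    (l : D ⟶ E) (w₁ : f ≫ g = 0) (w₂ : g ≫ k = 0) (w₃ : k ≫ l = 0) (h₁ : (ShortComplex.mk f g w₁).Exact)
    (h₂ : (ShortComplex.mk g k w₂).Exact) (h₃ : (ShortComplex.mk k l w₃).Exact)
    [A.IsQuasicoherent] [B.IsQuasicoherent] [D.IsQuasicoherent] [E.IsQuasicoherent] : C.IsQuasicoherent := by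
  let a : cokernel f ⟶ C := cokernel.desc f g w₁
  let b : C ⟶ kernel l := kernel.lift l k w₃
  have wab : a ≫ b = 0 := by
    rw [← cancel_epi (cokernel.π f), ← cancel_mono (kernel.ι l)]
    simp [a, b, w₂]
  haveI : Mono a := h₁.mono_cokernelDesc
  haveI : Epi b := h₃.epi_kernelLift
  have hab : (ShortComplex.mk a b wab).Exact := by
    let φ : ShortComplex.mk g k w₂ ⟶ ShortComplex.mk a k (by
        rw [← cancel_epi (cokernel.π f)]; simp [a, w₂]) :=
      ShortComplex.homMk (cokernel.π f) (𝟙 _) (𝟙 _) (by simp [a]) (by simp)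
    haveI : Epi φ.τ₁ := inferInstanceAs (Epi (cokernel.π f))
    haveI : IsIso φ.τ₂ := inferInstanceAs (IsIso (𝟙 C))
    haveI : Mono φ.τ₃ := inferInstanceAs (Mono (𝟙 D))
    have h2' := (ShortComplex.exact_iff_of_epi_of_isIso_of_mono φ).1 h₂
    let ψ : ShortComplex.mk a b wab ⟶ ShortComplex.mk a k (by
        rw [← cancel_epi (cokernel.π f)]; simp [a, w₂]) :=
      ShortComplex.homMk (𝟙 _) (𝟙 _) (kernel.ι l) (by simp) (by simp [b])
    haveI : Epi ψ.τ₁ := inferInstanceAs (Epi (𝟙 _))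
    haveI : IsIso ψ.τ₂ := inferInstanceAs (IsIso (𝟙 C))
    haveI : Mono ψ.τ₃ := inferInstanceAs (Mono (kernel.ι l))
    exact (ShortComplex.exact_iff_of_epi_of_isIso_of_mono ψ).2 h2'
  exact @QCoh.isQuasicoherent_X₂ X (ShortComplex.mk a b wab)
    (ShortComplex.ShortExact.mk' hab ‹_› ‹_›) (QCoh.isQuasicoherent_cokernel f) (QCoh.isQuasicoherent_kernel l)

/-! ### Supports outside an open subscheme -/

theorem epi_unit_app {U X : Scheme.{u}} (j : U ⟶ X) [IsOpenImmersion j] (Q : X.Modules) (hQ : Injective Q)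
    (W : X.Opensᵒᵖ) :
    Epi (((ModShf.toAbFunctor X).map ((Scheme.Modules.restrictAdjunction j).unit.app Q)).hom.app W) := by
  have hfl := ModShf.isFlasque_toAb_of_injective Q hQ
  exact TopCat.Presheaf.IsFlasque.epi (F := (Coh.toAb Q).obj) (homOfLE (j.image_preimage_le W.unop)).op

section Compare

variable {Y : Scheme.{u}} (U : Y.Opens)

theorem sections_unit_eq_zero_iff (M : Y.Modules) (V : Y.Opens) (s : (Coh.toAb M).obj.obj (op V)) :
    ((LocCohZW.ev (X := Y.carrier) V).map
        ((ModShf.toAbFunctor Y).map ((Scheme.Modules.restrictAdjunction U.ι).unit.app M))).hom s = 0 ↔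
      ((LocCohZW.ev (X := Y.carrier) V).map (LocCohZW.unitU (X := Y.carrier) U (Coh.toAb M))).hom s = 0 := by
  refine Iff.trans ?_ (LocCohZW.unit_app_eq_zero_iff (X := Y.carrier) U (Coh.toAb M) V s).symm
  refine LocCohZW.res_eq_zero_iff_of_le (X := Y.carrier) (F := Coh.toAb M) (U.ι.image_preimage_le V) inf_le_left ?_ s
  rw [U.ι.image_preimage_eq_opensRange_inf, U.opensRange_ι, inf_comm]

/-- The comparison of the two definitions of sections with support. -/
noncomputable def gammaCmp : DCoh.gammaZ U.ι ⋙ ModShf.toAbFunctor Y ⟶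
    ModShf.toAbFunctor Y ⋙ LocCohZ.sectSuppF (X := Y.carrier) U where
  app M := kernel.lift (LocCohZW.unitU (X := Y.carrier) U (Coh.toAb M))
    ((ModShf.toAbFunctor Y).map ((LocCohZW.SheafM.incl U.ι).app M)) (by
      refine Sheaf.hom_ext (NatTrans.ext (funext fun V => ?_))
      ext s
      change ((LocCohZW.ev (X := Y.carrier) V.unop).map _).hom _ = 0
      refine (sections_unit_eq_zero_iff U M V.unop _).1 ?_
      change ((LocCohZW.ev (X := Y.carrier) V.unop).map ((ModShf.toAbFunctor Y).map _) ).hom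
        (((LocCohZW.ev (X := Y.carrier) V.unop).map ((ModShf.toAbFunctor Y).map _)).hom s) = 0
      rw [← AddMonoidHom.comp_apply, ← AddCommGrpCat.hom_comp, ← Functor.map_comp, ← Functor.map_comp,
        show (LocCohZW.SheafM.incl U.ι).app M ≫ (Scheme.Modules.restrictAdjunction U.ι).unit.app M = 0 from
          kernel.condition _, Functor.map_zero, Functor.map_zero]
      rfl)
  naturality {M N} φ := by
    refine equalizer.hom_ext ?_
    change (_ ≫ kernel.lift _ _ _) ≫ kernel.ι _ = (_ ≫ _) ≫ kernel.ι _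
    rw [Category.assoc, kernel.lift_ι, Category.assoc]
    erw [(LocCohZW.suppι (X := Y.carrier) U).naturality ((ModShf.toAbFunctor Y).map φ)]
    erw [kernel.lift_ι_assoc]
    refine ((ModShf.toAbFunctor Y).map_comp _ _).symm.trans (Eq.trans ?_ ((ModShf.toAbFunctor Y).map_comp _ _))
    exact congrArg (ModShf.toAbFunctor Y).map ((LocCohZW.SheafM.incl U.ι).naturality φ)

instance isIso_gammaCmp_app (M : Y.Modules) : IsIso ((gammaCmp U).app M) := by
  let η := (Scheme.Modules.restrictAdjunction U.ι).unit.app M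
  let T := ModShf.toAbFunctor Y
  let k := kernel.ι (LocCohZW.unitU (X := Y.carrier) U (Coh.toAb M))
  have hk : k ≫ T.map η = 0 := by
    refine Sheaf.hom_ext (NatTrans.ext (funext fun V => ?_))
    ext s
    change ((LocCohZW.ev (X := Y.carrier) V.unop).map (T.map η)).hom
      (((LocCohZW.ev (X := Y.carrier) V.unop).map k).hom s) = 0
    refine (sections_unit_eq_zero_iff U M V.unop _).2 ?_
    rw [← AddMonoidHom.comp_apply, ← AddCommGrpCat.hom_comp, ← Functor.map_comp, kernel.condition, Functor.map_zero]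
    rfl
  let hlim := KernelFork.mapIsLimit _ (kernelIsKernel η) T
  obtain ⟨l, hl⟩ := KernelFork.IsLimit.lift' hlim k hk
  have hl' : l ≫ T.map (kernel.ι η) = k := hl
  have hm : Mono (T.map (kernel.ι η)) := inferInstance
  refine ⟨l, ?_, ?_⟩
  · refine hm.right_cancellation _ _ ?_
    rw [Category.assoc, hl']
    exact (kernel.lift_ι _ _ _).trans (Category.id_comp _).symm
  · refine equalizer.hom_ext ?_
    change (l ≫ kernel.lift _ _ _) ≫ k = 𝟙 _ ≫ k
    rw [Category.assoc, kernel.lift_ι, Category.id_comp]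
    exact hl'

instance isIso_gammaCmp : IsIso (gammaCmp U) := NatIso.isIso_of_isIso_app _

end Compare

/-! ### Locally closed supports -/

section LC

variable {Y : Scheme.{u}} (V₂ V₁ : Y.Opens)

/-- The inclusion of `V₁ ⊓ V₂` into `V₁`. -/
noncomputable abbrev inner : (↑(V₁.ι ⁻¹ᵁ V₂) : Scheme.{u}) ⟶ (↑V₁ : Scheme.{u}) := (V₁.ι ⁻¹ᵁ V₂).ι

/-- Sections supported in `V₁ \ V₂`. -/
noncomputable abbrev Φ₁ : Y.Modules ⥤ Y.Modules :=
  Scheme.Modules.restrictFunctor V₁.ι ⋙ DCoh.gammaZ (inner V₂ V₁) ⋙ Scheme.Modules.pushforward V₁.ι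

/-- Sections over the part in `V₁`. -/
noncomputable abbrev Φ₂ : Y.Modules ⥤ Y.Modules :=
  Scheme.Modules.restrictFunctor V₁.ι ⋙ Scheme.Modules.pushforward V₁.ι

/-- Sections over the part in `V₁ ⊓ V₂`. -/
noncomputable abbrev Φ₃ : Y.Modules ⥤ Y.Modules :=
  Scheme.Modules.restrictFunctor V₁.ι ⋙ LocCohZW.SheafM.P (inner V₂ V₁) ⋙ Scheme.Modules.pushforward V₁.ι

/-- The inclusion of supported sections. -/
noncomputable def αLC : Φ₁ V₂ V₁ ⟶ Φ₂ V₁ where
  app M := (Scheme.Modules.pushforward V₁.ι).map ((LocCohZW.SheafM.incl (inner V₂ V₁)).app _)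
  naturality {M N} φ := by
    change (Scheme.Modules.pushforward V₁.ι).map _ ≫ _ = _ ≫ (Scheme.Modules.pushforward V₁.ι).map _
    erw [← Functor.map_comp, ← Functor.map_comp, (LocCohZW.SheafM.incl (inner V₂ V₁)).naturality]
    rfl

/-- Restriction to the smaller open. -/
noncomputable def βLC : Φ₂ V₁ ⟶ Φ₃ V₂ V₁ where
  app M := (Scheme.Modules.pushforward V₁.ι).map ((Scheme.Modules.restrictAdjunction (inner V₂ V₁)).unit.app _)
  naturality {M N} φ := by
    change (Scheme.Modules.pushforward V₁.ι).map _ ≫ _ = _ ≫ (Scheme.Modules.pushforward V₁.ι).map _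
    erw [← Functor.map_comp, ← Functor.map_comp, ← (Scheme.Modules.restrictAdjunction (inner V₂ V₁)).unit.naturality]
    rfl

theorem αLC_βLC : αLC V₂ V₁ ≫ βLC V₂ V₁ = 0 := by
  refine NatTrans.ext (funext fun M => ?_)
  change (Scheme.Modules.pushforward V₁.ι).map _ ≫ (Scheme.Modules.pushforward V₁.ι).map _ = 0
  erw [← Functor.map_comp, kernel.condition, Functor.map_zero]

theorem shortExact_LC (Q : Y.Modules) (hQ : Injective Q) :
    (ShortComplex.mk ((αLC V₂ V₁).app Q) ((βLC V₂ V₁).app Q) (NatTrans.congr_app (αLC_βLC V₂ V₁) Q)).ShortExact := by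
  let N := (Scheme.Modules.restrictFunctor V₁.ι).obj Q
  have hN : Injective N := LocCohZW.SheafM.injective_restrictFunctor V₁.ι Q hQ
  have hlim := KernelFork.mapIsLimit _ (kernelIsKernel ((Scheme.Modules.restrictAdjunction (inner V₂ V₁)).unit.app N))
    (Scheme.Modules.pushforward V₁.ι)
  have hu := epi_unit_app (inner V₂ V₁) N hN
  haveI he : Epi ((βLC V₂ V₁).app Q) := by
    haveI : (ModShf.toAbFunctor Y).Faithful :=
      (inferInstance : (SheafOfModules.toSheaf.{u} Y.ringCatSheaf).Faithful)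
    apply (ModShf.toAbFunctor Y).epi_of_epi_map
    apply (sheafToPresheaf _ _).epi_of_epi_map
    apply (config := { allowSynthFailures := true }) NatTrans.epi_of_epi_app
    intro W
    exact hu (op (V₁.ι ⁻¹ᵁ W.unop))
  haveI : Mono ((αLC V₂ V₁).app Q) := by
    haveI : Mono ((LocCohZW.SheafM.incl (inner V₂ V₁)).app N) := inferInstanceAs (Mono (kernel.ι _))
    exact inferInstanceAs (Mono ((Scheme.Modules.pushforward V₁.ι).map ((LocCohZW.SheafM.incl (inner V₂ V₁)).app N)))
  exact ShortComplex.ShortExact.mk' (ShortComplex.exact_of_f_is_kernel _ hlim) ‹_› he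

instance : (Φ₁ V₂ V₁).Additive := by unfold Φ₁; infer_instance
instance : (Φ₂ V₁).Additive := by unfold Φ₂; infer_instance
instance : (Φ₃ V₂ V₁).Additive := by unfold Φ₃; infer_instance

instance : PreservesFiniteLimits (Φ₁ V₂ V₁) := comp_preservesFiniteLimits _ _

variable [HasInjectiveResolutions Y.Modules]

theorem isQCoh_rightDerived_restrictPush {U : Scheme.{u}} (j : U ⟶ Y) [IsOpenImmersion j] [QuasiCompact j]
    (M : Y.Modules) [M.IsQuasicoherent] (n : ℕ) :
    (((Scheme.Modules.restrictFunctor j ⋙ Scheme.Modules.pushforward j).rightDerived n).obj M).IsQuasicoherent := by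
  have : ((Scheme.Modules.restrictFunctor j).obj M).IsQuasicoherent :=
    Scheme.Modules.isQuasicoherent_restrictFunctor j M
  have : EnoughInjectives U.Modules := inferInstance
  let c := ModShf.AcyclicRes.compareIso (Scheme.Modules.restrictFunctor j) (Scheme.Modules.pushforward j)
    (LocCohZW.SheafM.goodClass_injective _) (fun Q hQ => LocCohZW.SheafM.injective_restrictFunctor j Q hQ) n
  have : ((Coh.Rpush j n).obj ((Scheme.Modules.restrictFunctor j).obj M)).IsQuasicoherent := S0030.result j _ n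
  exact QCoh.isQuasicoherent_of_iso (M := (Coh.Rpush j n).obj _) (c.symm.app M)

/-- The composite embedding. -/
noncomputable def Φ₃Iso : Φ₃ V₂ V₁ ≅
    Scheme.Modules.restrictFunctor (inner V₂ V₁ ≫ V₁.ι) ⋙ Scheme.Modules.pushforward (inner V₂ V₁ ≫ V₁.ι) :=
  (Functor.associator _ _ _).symm ≪≫ Functor.isoWhiskerRight ((Functor.associator _ _ _).symm ≪≫
      Functor.isoWhiskerRight (Scheme.Modules.restrictFunctorComp (inner V₂ V₁) V₁.ι).symm _) _ ≪≫
    Functor.associator _ _ _ ≪≫
    Functor.isoWhiskerLeft _ (Scheme.Modules.pushforwardComp (inner V₂ V₁) V₁.ι)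

variable (h : V₂ ≤ V₁) [QuasiCompact V₁.ι] [QuasiCompact V₂.ι]

include h in
theorem quasiCompact_inner_comp : QuasiCompact (inner V₂ V₁ ≫ V₁.ι) := by
  have hr : Set.range (inner V₂ V₁ ≫ V₁.ι) = Set.range V₂.ι := by
    rw [Scheme.Hom.comp_base, TopCat.coe_comp, Set.range_comp, Scheme.Opens.range_ι, Scheme.Opens.range_ι]
    exact (Set.image_preimage_eq_iff.2 (by rw [Scheme.Opens.range_ι]; exact h))
  rw [← IsOpenImmersion.isoOfRangeEq_hom_fac (inner V₂ V₁ ≫ V₁.ι) V₂.ι hr]
  infer_instance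

include h in
theorem isQCoh_rightDerived_Φ₁ (M : Y.Modules) [M.IsQuasicoherent] (q : ℕ) :
    (((Φ₁ V₂ V₁).rightDerived q).obj M).IsQuasicoherent := by
  haveI hc := quasiCompact_inner_comp V₂ V₁ h
  haveI : QuasiCompact (inner V₂ V₁) := QuasiCompact.of_comp _ V₁.ι
  rcases q with _ | n
  · have : ((Scheme.Modules.restrictFunctor V₁.ι).obj M).IsQuasicoherent :=
      Scheme.Modules.isQuasicoherent_restrictFunctor V₁.ι M
    have : EnoughInjectives (↑V₁ : Scheme.{u}).Modules := inferInstance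
    have : ((DCoh.gammaZ (inner V₂ V₁)).obj ((Scheme.Modules.restrictFunctor V₁.ι).obj M)).IsQuasicoherent :=
      LocCohZW.SheafM.isQCoh_gammaZ (inner V₂ V₁) _ ‹_›
    have : ((Φ₁ V₂ V₁).obj M).IsQuasicoherent := QCoh.isQuasicoherent_pushforward V₁.ι _
    exact QCoh.isQuasicoherent_of_iso (M := (Φ₁ V₂ V₁).obj M) ((Φ₁ V₂ V₁).rightDerivedZeroIsoSelf.app M).symm
  · let I := injectiveResolution M
    have hI := LocCohZW.FunSeq.shortExact_cxSeq (αLC V₂ V₁) (βLC V₂ V₁) (αLC_βLC V₂ V₁) (shortExact_LC V₂ V₁) I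
    have q2 : ∀ k, ((((Φ₂ V₁).mapHomologicalComplex _).obj I.cocomplex).homology k).IsQuasicoherent := fun k =>
      have := isQCoh_rightDerived_restrictPush V₁.ι M k
      QCoh.isQuasicoherent_of_iso (I.isoRightDerivedObj (Φ₂ V₁) k)
    have q3 : ∀ k, ((((Φ₃ V₂ V₁).mapHomologicalComplex _).obj I.cocomplex).homology k).IsQuasicoherent := fun k =>
      have := isQCoh_rightDerived_restrictPush (inner V₂ V₁ ≫ V₁.ι) M k
      QCoh.isQuasicoherent_of_iso (((RDer.rightDerivedIso (Φ₃Iso V₂ V₁) k).symm.app M) ≪≫ I.isoRightDerivedObj (Φ₃ V₂ V₁) k)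
    have := q2 n
    have := q3 n
    have := q2 (n + 1)
    have := q3 (n + 1)
    have : ((((Φ₁ V₂ V₁).mapHomologicalComplex _).obj I.cocomplex).homology (n + 1)).IsQuasicoherent :=
      @isQuasicoherent_of_exact₅ Y _ _ _ _ _ _ _ _ _ _ _ _ (hI.homology_exact₃ n (n + 1) rfl)
        (hI.homology_exact₁ n (n + 1) rfl) (hI.homology_exact₂ (n + 1)) (q2 n) (q3 n) (q2 (n + 1)) (q3 (n + 1))
    exact QCoh.isQuasicoherent_of_iso (M := (((Φ₁ V₂ V₁).mapHomologicalComplex _).obj I.cocomplex).homology (n + 1))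
      (I.isoRightDerivedObj (Φ₁ V₂ V₁) (n + 1)).symm

end LC

end Groth.Agent.LocCohLC
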